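import Cfsg.Agent.H686.EP.L2Gen
import Cfsg.Agent.H419.EP.Soc
import Cfsg.Agent.H384.RC.Lin

/-!
# S3499, `L_2(q)` in `Sp_4(q)`: the unipotent group and the points of its centraliser (helper686)
-/

set_option autoImplicit false

namespace Cfsg.Agent.H686.EP

open Matrix
open Cfsg.Agent.H284 (EPT cj mem_cj)
open Cfsg.Agent.H906 (unP dg dg_val dg_pow un un_val unP_conj unP_pow unP_injective)
open Cfsg.Agent.H587.Sp (ww entries_of_mk)

section psl

variable {K : Type*} [Field K]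

theorem tri_pow {g : SpecialLinearGroup (Fin 2) K} (h10 : g.1 1 0 = 0) (n : ℕ) :
    (g ^ n).1 1 0 = 0 ∧ (g ^ n).1 0 0 = g.1 0 0 ^ n ∧ (g ^ n).1 1 1 = g.1 1 1 ^ n := by
  induction n with
  | zero => simp
  | succ n ih =>
    obtain ⟨h1, h2, h3⟩ := ih
    have e : (g ^ (n + 1)).1 = (g ^ n).1 * g.1 := by rw [pow_succ]; rfl
    rw [e]
    simp only [Matrix.mul_apply, Fin.sum_univ_two, h1, h2, h3, h10]
    refine ⟨by ring, by ring, by ring⟩

/-- an element of the Borel subgroup with trivial `p`-th power is unipotent -/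
theorem unip_of_pow {p : ℕ} [Fact p.Prime] [CharP K p] {g : SpecialLinearGroup (Fin 2) K} (h10 : g.1 1 0 = 0)
    (hp : (QuotientGroup.mk g : Matrix.ProjectiveSpecialLinearGroup (Fin 2) K) ^ p = 1) :
    ∃ b, (QuotientGroup.mk g : Matrix.ProjectiveSpecialLinearGroup (Fin 2) K) = unP K b := by
  rw [← QuotientGroup.mk_pow] at hp
  obtain ⟨-, -, h3⟩ := entries_of_mk hp
  obtain ⟨-, h4, h5⟩ := tri_pow h10 p
  rw [h4, h5] at h3
  have h6 : g.1 0 0 = g.1 1 1 := frobenius_inj K p h3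
  have hdet := g.2
  rw [Matrix.det_fin_two, h10, mul_zero, sub_zero, ← h6] at hdet
  rcases mul_self_eq_one_iff.1 hdet with h7 | h7
  · refine ⟨Multiplicative.ofAdd (g.1 0 1), ?_⟩
    have h8 : g = un (g.1 0 1) := by
      apply Subtype.ext
      rw [un_val]
      ext i j
      fin_cases i <;> fin_cases j
      · exact h7
      · rfl
      · exact h10
      · exact h6.symm.trans h7
    show QuotientGroup.mk g = QuotientGroup.mk (un (g.1 0 1))
    rw [← h8]
  · refine ⟨Multiplicative.ofAdd (-g.1 0 1), ?_⟩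
    show QuotientGroup.mk g = QuotientGroup.mk (un (-g.1 0 1))
    rw [QuotientGroup.eq, Matrix.SpecialLinearGroup.mem_center_iff]
    refine ⟨-1, by rw [Fintype.card_fin]; ring, ?_⟩
    show _ = (g⁻¹).1 * (un (-g.1 0 1)).1
    rw [un_val, Matrix.SpecialLinearGroup.coe_inv, Matrix.adjugate_fin_two, Matrix.mul_fin_two]
    ext i j
    fin_cases i <;> fin_cases j
    · simp [← h6, h7]
    · simp [← h6, h7]
    · simp [h10]
    · simp [h10, h7]

end psl

section abstract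

variable {Q : Type*} [Group Q] {A N : Subgroup Q}

/-- the socle is invariant -/
theorem soc_inv (hNA : N ≤ A) (hNn : ∀ a ∈ A, ∀ n ∈ N, a * n * a⁻¹ ∈ N)
    (hNc : ∀ a ∈ A, (∀ n ∈ N, a * n = n * a) → a = 1) (hs : IsSimpleGroup N) {σ : MulAut Q}
    (hσ : ∀ a, σ a ∈ A ↔ a ∈ A) : ∀ n ∈ N, σ n ∈ N := by
  set M : Subgroup Q := N.comap σ.toMonoidHom with hM
  have hMm : ∀ x, x ∈ M ↔ σ x ∈ N := fun x => Iff.rfl
  have hMA : M ≤ A := fun x hx => (hσ x).1 (hNA ((hMm x).1 hx))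
  have hMn : ∀ a ∈ A, ∀ n ∈ M, a * n * a⁻¹ ∈ M := by
    intro a ha n hn
    rw [hMm, map_mul, map_mul, map_inv]
    exact hNn _ ((hσ a).2 ha) _ ((hMm n).1 hn)
  have hn : ((M ⊓ N).subgroupOf N).Normal := ⟨by
    rintro ⟨n, hn'⟩ hn ⟨a, ha⟩
    exact ⟨hMn a (hNA ha) n hn.1, N.mul_mem (N.mul_mem ha hn') (N.inv_mem ha)⟩⟩
  rcases hn.eq_bot_or_eq_top with h4 | h4
  · exfalso
    have h5 : M ⊓ N = ⊥ := by
      rw [Subgroup.eq_bot_iff_forall]
      intro x hx
      have h6 : (⟨x, hx.2⟩ : N) ∈ (M ⊓ N).subgroupOf N := hx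
      rw [h4, Subgroup.mem_bot] at h6
      exact congrArg Subtype.val h6
    have h7 : ∀ x ∈ M, x = 1 := by
      intro x hx
      apply hNc x (hMA hx)
      intro n hn'
      have h8 : x * n * x⁻¹ * n⁻¹ ∈ M ⊓ N := by
        refine ⟨?_, ?_⟩
        · have : x * n * x⁻¹ * n⁻¹ = x * (n * x⁻¹ * n⁻¹) := by group
          rw [this]
          exact M.mul_mem hx (hMn n (hNA hn') _ (M.inv_mem hx))
        · exact N.mul_mem (hNn x (hMA hx) n hn') (N.inv_mem hn')
      rw [h5, Subgroup.mem_bot, mul_inv_eq_one, mul_inv_eq_iff_eq_mul] at h8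
      exact h8
    obtain ⟨y, hy⟩ := exists_ne (1 : N)
    apply hy
    apply Subtype.ext
    have h9 := h7 (σ.symm y) (by rw [hMm, MulEquiv.apply_symm_apply]; exact y.2)
    have h10 : (y : Q) = σ (σ.symm y) := (MulEquiv.apply_symm_apply σ _).symm
    rw [h10, h9, map_one]
    rfl
  · intro n hn'
    have h6 : (⟨n, hn'⟩ : N) ∈ (M ⊓ N).subgroupOf N := by rw [h4]; exact Subgroup.mem_top _
    exact (hMm n).1 (Subgroup.mem_inf.1 h6).1

variable {F : Type*} [Field F] [Fintype F] {p : ℕ}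

omit [Fintype F] in
/-- **Part II**: for `z` centralising the unipotent group of the socle and `a` in the torus, `[z⁻¹, a] ∈ A`. -/
theorem torus_mem [Finite Q] {Γ : Subgroup (MulAut Q)} (h : EPT A Γ) [hp : Fact p.Prime] [CharP F p]
    (hNA : N ≤ A) (hNn : ∀ a ∈ A, ∀ n ∈ N, a * n * a⁻¹ ∈ N)
    (hNc : ∀ a ∈ A, (∀ n ∈ N, a * n = n * a) → a = 1) (hs : IsSimpleGroup N)
    (φ : N ≃* Matrix.ProjectiveSpecialLinearGroup (Fin 2) F) {z : Q}
    (hz : ∀ n : N, (∃ b, φ n = unP F b) → z * n = n * z) {a : N} {t : Fˣ} (ha : φ a = QuotientGroup.mk (dg t)) :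
    z⁻¹ * ((a : Q) * z * (a : Q)⁻¹) ∈ A := by
  by_cases hzA : z ∈ A
  · have haA := hNA a.2
    exact A.mul_mem (A.inv_mem hzA) (A.mul_mem (A.mul_mem haA hzA) (A.inv_mem haA))
  -- `N` is not in `A^z`
  have hinv : ∀ σ ∈ Γ, ∀ n ∈ N, σ n ∈ N := fun σ hσ => soc_inv hNA hNn hNc hs (h.inv σ hσ)
  have hNb : N ≠ ⊥ := by
    intro e
    obtain ⟨y, hy⟩ := exists_ne (1 : N)
    apply hy
    apply Subtype.ext
    have h1 : ∀ x ∈ N, x = 1 := by
      intro x hx
      rw [e, Subgroup.mem_bot] at hx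
      exact hx
    exact h1 y y.2
  have hN1 : ¬ N ≤ cj z A := fun e => hNb (h.F1 z hzA N hNA hinv e)
  -- the unipotent group
  let K : Subgroup Q := ((unP F).range.comap φ.toMonoidHom).map N.subtype
  have hK : ∀ x, x ∈ K ↔ ∃ hx : x ∈ N, ∃ b, φ ⟨x, hx⟩ = unP F b := by
    intro x
    constructor
    · rintro ⟨n, ⟨b, hb⟩, rfl⟩
      exact ⟨n.2, b, hb.symm⟩
    · rintro ⟨hx, b, hb⟩
      exact ⟨⟨x, hx⟩, ⟨b, hb.symm⟩, rfl⟩
  have hKN : K ≤ N := fun x hx => ((hK x).1 hx).1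
  have hKz : K ≤ cj z A := by
    intro x hx
    rw [mem_cj]
    obtain ⟨hxN, b, hb⟩ := (hK x).1 hx
    have h1 := hz ⟨x, hxN⟩ ⟨b, hb⟩
    have h2 : z⁻¹ * x * z = x := by
      rw [mul_assoc, inv_mul_eq_iff_eq_mul]
      exact h1.symm
    rw [h2]
    exact hNA hxN
  -- elements of `N ∩ A^z` are in the Borel subgroup
  have hbor : ∀ n : N, (n : Q) ∈ cj z A → ∀ g : SpecialLinearGroup (Fin 2) F, φ n = QuotientGroup.mk g →
      g.1 1 0 = 0 := by
    intro n hn g hg
    by_contra hcon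
    have h1 := psl_gen (((cj z A).comap N.subtype).map φ.toMonoidHom) ?_ hcon ?_
    · apply hN1
      intro x hx
      have h2 : φ ⟨x, hx⟩ ∈ ((cj z A).comap N.subtype).map φ.toMonoidHom := by rw [h1]; trivial
      obtain ⟨y, hy, hyx⟩ := h2
      have h3 : y = ⟨x, hx⟩ := φ.injective hyx
      rw [h3] at hy
      exact hy
    · intro x
      refine ⟨φ.symm (unP F (Multiplicative.ofAdd x)), ?_, MulEquiv.apply_symm_apply φ _⟩
      exact hKz ((hK _).2 ⟨(φ.symm (unP F (Multiplicative.ofAdd x))).2, Multiplicative.ofAdd x,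
        MulEquiv.apply_symm_apply φ _⟩)
    · exact ⟨n, hn, hg⟩
  have hKinv : ∀ σ ∈ Γ, z⁻¹ * σ z ∈ A → ∀ k ∈ K, σ k ∈ K := by
    intro σ hσ hσz k hk
    obtain ⟨hkN, b, hb⟩ := (hK k).1 hk
    have h1 : σ k ∈ N := hinv σ hσ k hkN
    have h2 : σ k ∈ cj z A := by
      have h3 := hKz hk
      rw [mem_cj] at h3 ⊢
      have h4 := (h.inv σ hσ _).2 h3
      rw [map_mul, map_mul, map_inv] at h4
      have h5 : z⁻¹ * σ k * z = (z⁻¹ * σ z) * ((σ z)⁻¹ * σ k * σ z) * (z⁻¹ * σ z)⁻¹ := by group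
      rw [h5]
      exact A.mul_mem (A.mul_mem hσz h4) (A.inv_mem hσz)
    obtain ⟨g, hg⟩ := QuotientGroup.mk_surjective (φ ⟨σ k, h1⟩)
    have h6 := hbor ⟨σ k, h1⟩ h2 g hg.symm
    have hkp : k ^ p = 1 := by
      have h7 : (⟨k, hkN⟩ : N) ^ p = 1 := by
        apply φ.injective
        have h8 : unP F b = unP F (Multiplicative.ofAdd (Multiplicative.toAdd b)) := rfl
        rw [map_pow, hb, map_one, h8, unP_pow, CharP.cast_eq_zero, zero_mul]
        exact map_one (unP F)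
      exact congrArg Subtype.val h7
    have h9 : (QuotientGroup.mk g : Matrix.ProjectiveSpecialLinearGroup (Fin 2) F) ^ p = 1 := by
      rw [hg, ← map_pow]
      have h10 : (⟨σ k, h1⟩ : N) ^ p = 1 := by
        apply Subtype.ext
        show (σ k) ^ p = 1
        rw [← map_pow, hkp, map_one]
      rw [h10, map_one]
    obtain ⟨β, hβ⟩ := unip_of_pow h6 h9
    exact (hK _).2 ⟨h1, β, by rw [← hg, hβ]⟩
  have hKb : K ≠ ⊥ := by
    intro e
    have h1 : ((φ.symm (unP F (Multiplicative.ofAdd 1)) : N) : Q) ∈ K :=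
      (hK _).2 ⟨(φ.symm (unP F (Multiplicative.ofAdd 1))).2, Multiplicative.ofAdd 1,
        MulEquiv.apply_symm_apply φ _⟩
    rw [e, Subgroup.mem_bot] at h1
    have h2 : φ.symm (unP F (Multiplicative.ofAdd 1)) = 1 := Subtype.ext h1
    rw [map_eq_one_iff _ φ.symm.injective] at h2
    have h3 : unP F (Multiplicative.ofAdd (1 : F)) = unP F 1 := by rw [h2, map_one]
    exact one_ne_zero (α := F) (Multiplicative.ofAdd.injective (unP_injective h3))
  have hfin := h.norm z hzA K (le_inf (hKN.trans hNA) hKz) hKinv hKb (MulAut.conj (a : Q))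
    ((h.conj _).2 (hNA a.2)) ?_
  · exact hfin
  · intro k hk
    obtain ⟨hkN, b, hb⟩ := (hK k).1 hk
    refine (hK _).2 ⟨N.mul_mem (N.mul_mem a.2 hkN) (N.inv_mem a.2),
      Multiplicative.ofAdd ((t : F) ^ 2 * Multiplicative.toAdd b), ?_⟩
    have h1 : (⟨MulAut.conj (a : Q) k, N.mul_mem (N.mul_mem a.2 hkN) (N.inv_mem a.2)⟩ : N) =
        a * ⟨k, hkN⟩ * a⁻¹ := rfl
    rw [h1, map_mul, map_mul, map_inv, ha, hb]
    exact unP_conj t (Multiplicative.toAdd b)

end abstract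

section aut

open Cfsg.Agent.H999.PslGraph Cfsg.Agent.H384.RC
open Cfsg.Agent.ClassicalGeometry.AutPSL.Root Cfsg.Agent.ClassicalGeometry.AutPSL.Auto

variable {F : Type*} [Field F]

theorem Cj_toGL' (s : Matrix.SpecialLinearGroup (Fin 2) F) :
    Cj (Matrix.SpecialLinearGroup.toGL s) =
      MulAut.conj (QuotientGroup.mk s : Matrix.ProjectiveSpecialLinearGroup (Fin 2) F) := by
  apply MulEquiv.ext
  intro x
  obtain ⟨x, rfl⟩ := pr_surjective x
  rfl

/-- an automorphism of `PSL_2(q)` that fixes the unipotent group is conjugation by a unipotent element -/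
theorem autfix [Fintype F] {τ : MulAut (Matrix.ProjectiveSpecialLinearGroup (Fin 2) F)}
    (hτ : ∀ b, τ (unP F b) = unP F b) : ∃ β, τ = MulAut.conj (unP F β) := by
  rcases exists_form (by simp) τ with ⟨A, σ, e⟩ | ⟨h3, -⟩
  · have h1 : ∀ b : F, (A : Matrix (Fin 2) (Fin 2) F) * !![1, σ b; 0, 1] = !![1, b; 0, 1] * A := by
      intro b
      have h2 : Sem A σ * Cj (Matrix.SpecialLinearGroup.toGL (un b)) =
          Cj (Matrix.SpecialLinearGroup.toGL (un b)) * Sem A σ := by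
        rw [Cj_toGL', ← e]
        apply MulEquiv.ext
        intro x
        have h4 : τ (QuotientGroup.mk (un b)) = QuotientGroup.mk (un b) := hτ (Multiplicative.ofAdd b)
        show τ (QuotientGroup.mk (un b) * x * (QuotientGroup.mk (un b))⁻¹) = _
        rw [map_mul, map_mul, map_inv, h4]
        rfl
      rw [Sem_comm_iff] at h2
      obtain ⟨c, -, h5⟩ := h2
      have h6 := unip_exact A σ _ ?_ h5
      · have h7 : ((Matrix.SpecialLinearGroup.toGL (un b) : GL (Fin 2) F) : Matrix (Fin 2) (Fin 2) F) =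
          !![1, b; 0, 1] := rfl
        rw [h7] at h6
        rw [← h6]
        congr 1
        ext i j
        fin_cases i <;> fin_cases j <;> simp
      · refine ⟨2, ?_⟩
        have h7 : ((Matrix.SpecialLinearGroup.toGL (un b) : GL (Fin 2) F) : Matrix (Fin 2) (Fin 2) F) =
          !![1, b; 0, 1] := rfl
        rw [h7, pow_two]
        ext i j
        fin_cases i <;> fin_cases j <;> simp [Matrix.mul_apply, Fin.sum_univ_two]
    -- the entries of `A`
    have h8 := h1 1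
    rw [map_one] at h8
    have e00 := congrFun (congrFun h8 0) 0
    have e01 := congrFun (congrFun h8 0) 1
    simp [Matrix.mul_apply, Fin.sum_univ_two] at e00 e01
    set α := (A : Matrix (Fin 2) (Fin 2) F) 0 0 with hα
    set β := (A : Matrix (Fin 2) (Fin 2) F) 0 1 with hβ
    have hA10 : (A : Matrix (Fin 2) (Fin 2) F) 1 0 = 0 := e00
    have hA11 : (A : Matrix (Fin 2) (Fin 2) F) 1 1 = α := by linear_combination -e01
    have hα0 : α ≠ 0 := by
      intro h0
      have h9 : (A : Matrix (Fin 2) (Fin 2) F).det ≠ 0 := by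
        have := (Matrix.isUnits_det_units A).ne_zero
        exact this
      apply h9
      rw [Matrix.det_fin_two, hA10, hA11, ← hα, h0]
      ring
    refine ⟨Multiplicative.ofAdd (β / α), ?_⟩
    have hσ : σ = RingEquiv.refl F := by
      apply RingEquiv.ext
      intro b
      have h9 := congrFun (congrFun (h1 b) 0) 1
      simp [Matrix.mul_apply, Fin.sum_univ_two, hA11] at h9
      have h10 : α * (σ b - b) = 0 := by linear_combination h9
      exact sub_eq_zero.1 ((mul_eq_zero.1 h10).resolve_left hα0)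
    rw [e, hσ, Sem_one]
    show Cj A = MulAut.conj (QuotientGroup.mk (un (β / α)))
    rw [← Cj_toGL', eq_comm, Cj_eq_iff]
    refine ⟨α, hα0, ?_⟩
    show (A : Matrix (Fin 2) (Fin 2) F) = α • !![1, β / α; 0, 1]
    ext i j
    fin_cases i <;> fin_cases j
    · simp [hα]
    · show β = α * (β / α)
      field_simp
    · simp [hA10]
    · simp [hA11]
  · exfalso
    revert h3
    simp

variable {Q : Type*} [Group Q] {A N : Subgroup Q} [Fintype F]

/-- elements of `A` that centralise the unipotent group are unipotent -/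
theorem cent_unip (hNn : ∀ a ∈ A, ∀ n ∈ N, a * n * a⁻¹ ∈ N) (hNA : N ≤ A)
    (hNc : ∀ a ∈ A, (∀ n ∈ N, a * n = n * a) → a = 1)
    (φ : N ≃* Matrix.ProjectiveSpecialLinearGroup (Fin 2) F) {z : Q} (hzA : z ∈ A)
    (hz : ∀ n : N, (∃ b, φ n = unP F b) → z * n = n * z) : ∃ n : N, (∃ β, φ n = unP F β) ∧ z = n := by
  let τ : MulAut N :=
    { toFun := fun n => ⟨z * n * z⁻¹, hNn z hzA n n.2⟩
      invFun := fun n => ⟨z⁻¹ * n * (z⁻¹)⁻¹, hNn _ (A.inv_mem hzA) n n.2⟩
      left_inv := fun n => by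
        apply Subtype.ext
        show z⁻¹ * (z * (n : Q) * z⁻¹) * (z⁻¹)⁻¹ = n
        group
      right_inv := fun n => by
        apply Subtype.ext
        show z * (z⁻¹ * (n : Q) * (z⁻¹)⁻¹) * z⁻¹ = n
        group
      map_mul' := fun n m => by
        apply Subtype.ext
        show z * ((n : Q) * m) * z⁻¹ = z * (n : Q) * z⁻¹ * (z * (m : Q) * z⁻¹)
        group }
  have hτ : ∀ n : N, ((τ n : N) : Q) = z * n * z⁻¹ := fun n => rfl
  have h1 : ∀ b, MulAut.congr φ τ (unP F b) = unP F b := by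
    intro b
    show φ (τ (φ.symm (unP F b))) = _
    have h2 : τ (φ.symm (unP F b)) = φ.symm (unP F b) := by
      apply Subtype.ext
      rw [hτ, hz _ ⟨b, MulEquiv.apply_symm_apply φ _⟩, mul_inv_cancel_right]
    rw [h2, MulEquiv.apply_symm_apply]
  obtain ⟨β, hβ⟩ := autfix h1
  refine ⟨φ.symm (unP F β), ⟨β, MulEquiv.apply_symm_apply φ _⟩, ?_⟩
  have h2 : ((φ.symm (unP F β) : N) : Q)⁻¹ * z = 1 := by
    apply hNc _ (A.mul_mem (A.inv_mem (hNA (φ.symm (unP F β)).2)) hzA)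
    intro n hn
    have h3 := DFunLike.congr_fun hβ (φ ⟨n, hn⟩)
    have h4 : φ (τ (φ.symm (φ ⟨n, hn⟩))) = unP F β * φ ⟨n, hn⟩ * (unP F β)⁻¹ := h3
    rw [MulEquiv.symm_apply_apply] at h4
    have h5 : τ ⟨n, hn⟩ = φ.symm (unP F β) * ⟨n, hn⟩ * (φ.symm (unP F β))⁻¹ := by
      apply φ.injective
      rw [h4, map_mul, map_mul, map_inv, MulEquiv.apply_symm_apply]
    have h6 : z * n * z⁻¹ = (φ.symm (unP F β) : N) * n * ((φ.symm (unP F β) : N) : Q)⁻¹ :=
      congrArg Subtype.val h5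
    rw [mul_inv_eq_iff_eq_mul] at h6
    rw [mul_assoc, h6]
    group
  exact (inv_mul_eq_one.1 h2).symm

end aut

end Cfsg.Agent.H686.EP
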