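import Cfsg.Agent.H686.EP.L2Lin
import Cfsg.Agent.H686.EP.L2Tor

/-!
# S3499, own characteristic: `L_2(q)` in `PSp_4(q)` is the socle of no point stabiliser of an extremely primitive
group (helper686)
-/

set_option autoImplicit false

namespace Cfsg.Agent.H686.EP

open Cfsg Cfsg.Geo Matrix Module
open Cfsg.Agent.H909 Cfsg.Agent.H909.SpDouble
open Cfsg.Agent.ClassicalGeometry.SympBasic
open Cfsg.Agent.H284 (EPT cj mem_cj)
open Cfsg.Agent.H419.EP (Model)
open Cfsg.Agent.H906 (unP dg dg_val dg_pow un)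
open Cfsg.Agent.H587.Sp (pr pr_ker pr_cov exists_hom conj_lift quad_false)

section tv

variable {F : Type*} [Field F]

/-- the symplectic transvections -/
def tv (v : I4 → F) (c : F) : GL I4 F where
  val := sympTransvection 2 v c
  inv := sympTransvection 2 v (-c)
  val_inv := by rw [sympTransvection_mul, add_neg_cancel, sympTransvection_zero]
  inv_val := by rw [sympTransvection_mul, neg_add_cancel, sympTransvection_zero]

theorem coe_tv (v : I4 → F) (c : F) : ((tv v c : GL I4 F) : Matrix I4 I4 F) = sympTransvection 2 v c := rfl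

theorem tv_mem (v : I4 → F) (c : F) : tv v c ∈ spGL 2 F :=
  mem_spGL_iff_symplectic.2 (sympTransvection_mem v c)

theorem tv_mul (v : I4 → F) (c d : F) : tv v c * tv v d = tv v (c + d) := Units.ext (sympTransvection_mul v c d)

theorem tv_zero (v : I4 → F) : tv v 0 = 1 := Units.ext (sympTransvection_zero v)

theorem tv_inv (v : I4 → F) (c : F) : (tv v c)⁻¹ = tv v (-c) :=
  inv_eq_of_mul_eq_one_right (by rw [tv_mul, add_neg_cancel, tv_zero])

theorem tv_pow (v : I4 → F) (c : F) (n : ℕ) : tv v c ^ n = tv v (n * c) := by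
  induction n with
  | zero => rw [pow_zero, Nat.cast_zero, zero_mul, tv_zero]
  | succ n ih => rw [pow_succ, ih, tv_mul]; congr 1; push_cast; ring

theorem conj_tv {g : GL I4 F} (hg : g ∈ spGL 2 F) {v : I4 → F} {χ : F}
    (hv : (g : Matrix I4 I4 F) *ᵥ v = χ • v) (c : F) : g * tv v c * g⁻¹ = tv v (χ ^ 2 * c) := by
  rw [mul_inv_eq_iff_eq_mul]
  apply Units.ext
  rw [Units.val_mul, Units.val_mul, coe_tv, coe_tv, mul_sympTransvection (mem_spGL_iff_symplectic.1 hg), hv,
    sympTransvection_smul]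

theorem tv_inj {v : I4 → F} (hv : v ≠ 0) {c d : F} (h : tv v c = tv v d) : c = d := by
  by_contra hcd
  apply hv
  apply eq_zero_of_forall_sympForm_left
  intro x
  have h1 : sympTransvection 2 v c *ᵥ x = sympTransvection 2 v d *ᵥ x := by
    rw [← coe_tv, ← coe_tv, h]
  rw [sympTransvection_mulVec, sympTransvection_mulVec, add_right_inj] at h1
  have h2 : ((c - d) * sympForm 2 F x v) • v = 0 := by
    rw [sub_mul, sub_smul, h1, sub_self]
  rcases smul_eq_zero.1 h2 with h3 | h3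
  · exact (mul_eq_zero.1 h3).resolve_left (sub_ne_zero.2 hcd)
  · exact (hv h3).elim

theorem tv_add_inv (v : I4 → F) (c : F) : ((tv v c : GL I4 F) : Matrix I4 I4 F) +
    (((tv v c)⁻¹ : GL I4 F) : Matrix I4 I4 F) = (2 : F) • (1 : Matrix I4 I4 F) := by
  rw [tv_inv, coe_tv, coe_tv, sympTransvection_def, sympTransvection_def, neg_smul, two_smul]
  abel

end tv

theorem l2_sp4 {Q : Type*} [Group Q] [Finite Q] (_hs : IsSimpleGroup Q) {A : Subgroup Q} {Γ : Subgroup (MulAut Q)}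
    (h : EPT A Γ) {F : Type} [Field F] [Fintype F] (m : Model Q (spGL 2 F)) {P : Subgroup (GL (Fin 2 ⊕ Fin 2) F)}
    (core : Geo.IsResidualCore (m.hat A) P) {p : ℕ} (hp : p.Prime) (hc : CharP F p) (h5 : 5 ≤ p)
    (h7 : 7 < Fintype.card F)
    (e : Nonempty ((P ⧸ (Geo.scalars (Fin 2 ⊕ Fin 2) F).subgroupOf P) ≃* Matrix.ProjectiveSpecialLinearGroup (Fin 2) F)) :
    False := by
  classical
  have := Fact.mk hp
  obtain ⟨e⟩ := e
  have h2 : (2 : F) ≠ 0 := by
    intro h
    have h3 : p ∣ 2 := (CharP.cast_eq_zero_iff F p 2).1 (by exact_mod_cast h)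
    have := Nat.le_of_dvd (by norm_num) h3
    omega
  have hPS : P ≤ spGL 2 F := core.le.trans (m.hat_le A)
  have ctx : Ctx P := ⟨h2, hPS, core.perfect, core.simple, core.nonabelian⟩
  have hcov := pr_cov ctx e
  have hodd : Odd p := hp.odd_of_ne_two (by omega)
  obtain ⟨t, ht⟩ := IsCyclic.exists_generator (α := Fˣ)
  obtain ⟨a, ha⟩ := hcov.surj (QuotientGroup.mk (dg t))
  obtain ⟨y, hy, hyp⟩ := exists_hom hcov hodd
  obtain ⟨v, χ, hv0, hvy, hva, hχ⟩ := exists_vec ctx core.absIrred.1 h5 h7 e ht ha hy hyp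
  -- the socle in `Q`
  let f : P →* Q := m.π.comp (Subgroup.inclusion hPS)
  have hf : ∀ x : P, f x = m.π ⟨x, hPS x.2⟩ := fun _ => rfl
  have hker : f.ker = (scalars I4 F).subgroupOf P := by
    ext x
    rw [MonoidHom.mem_ker, hf, m.ker]
    rfl
  let E : (P ⧸ (scalars I4 F).subgroupOf P) ≃* f.range :=
    (QuotientGroup.quotientMulEquivOfEq hker).symm.trans (QuotientGroup.quotientKerEquivRange f)
  let φ : f.range ≃* Matrix.ProjectiveSpecialLinearGroup (Fin 2) F := E.symm.trans e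
  have hφ : ∀ x : P, φ ⟨f x, x, rfl⟩ = pr e x := by
    intro x
    show e (E.symm ⟨f x, x, rfl⟩) = e (QuotientGroup.mk x)
    congr 1
    rw [MulEquiv.symm_apply_eq]
    rfl
  have hNA : f.range ≤ A := by
    rintro _ ⟨x, rfl⟩
    exact (m.mem_hat_iff ⟨x, hPS x.2⟩).1 (core.le x.2)
  have hNn : ∀ a ∈ A, ∀ n ∈ f.range, a * n * a⁻¹ ∈ f.range := by
    rintro a ha _ ⟨x, rfl⟩
    obtain ⟨s, rfl⟩ := m.surj a
    have hs : (s : GL I4 F) ∈ m.hat A := (m.mem_hat_iff s).2 ha
    refine ⟨⟨s * x * (s : GL I4 F)⁻¹, core.normal _ hs _ x.2⟩, ?_⟩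
    rw [hf, hf, ← map_mul, ← map_inv, ← map_mul]
    rfl
  have hNc : ∀ a ∈ A, (∀ n ∈ f.range, a * n = n * a) → a = 1 := by
    intro a ha hc
    obtain ⟨s, rfl⟩ := m.surj a
    have hs : (s : GL I4 F) ∈ m.hat A := (m.mem_hat_iff s).2 ha
    rw [m.ker]
    apply core.centralizer_scalar _ hs
    intro x hx
    have h1 := hc (f ⟨x, hx⟩) ⟨⟨x, hx⟩, rfl⟩
    have h2 : m.π (s * ⟨x, hPS hx⟩ * s⁻¹ * ⟨x, hPS hx⟩⁻¹) = 1 := by
      rw [map_mul, map_mul, map_mul, map_inv, map_inv]
      rw [hf] at h1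
      rw [h1]
      group
    exact (m.ker _).1 h2
  have hNs : IsSimpleGroup f.range := by
    have := core.simple
    exact E.symm.isSimpleGroup
  -- the transvections with centre `v`
  let s : F → spGL 2 F := fun c => ⟨tv v c, tv_mem v c⟩
  have hyv : ∀ b c, (y b : GL I4 F) * tv v c = tv v c * y b := by
    intro b c
    have h1 : ((y b : GL I4 F) : Matrix I4 I4 F) *ᵥ v = (1 : F) • v := by
      rw [one_smul]
      exact hvy b
    have h3 := conj_tv (hPS (y b).2) h1 c
    rw [one_pow, one_mul, mul_inv_eq_iff_eq_mul] at h3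
    exact h3
  have hz : ∀ c, ∀ n : f.range, (∃ b, φ n = unP F b) → m.π (s c) * n = n * m.π (s c) := by
    rintro c n ⟨b, hb⟩
    have h1 : n = ⟨f (y b), y b, rfl⟩ := by
      apply φ.injective
      rw [hb, hφ, hy]
    rw [h1]
    show m.π (s c) * m.π ⟨y b, hPS (y b).2⟩ = m.π ⟨y b, hPS (y b).2⟩ * m.π (s c)
    rw [← map_mul, ← map_mul]
    congr 1
    exact Subtype.ext (hyv b c).symm
  have hmem : ∀ c, m.π (s c) ∈ A := by
    intro c
    have hχ' : χ ^ 2 - 1 ≠ 0 := by
      rw [sub_ne_zero, pow_two]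
      exact hχ
    have h1 := torus_mem h hNA hNn hNc hNs φ (hz (c / (χ ^ 2 - 1))) (a := ⟨f a, a, rfl⟩) (t := t)
      (by rw [hφ, ha])
    have h3 : (m.π (s (c / (χ ^ 2 - 1))))⁻¹ * (f a * m.π (s (c / (χ ^ 2 - 1))) * (f a)⁻¹) = m.π (s c) := by
      rw [hf, ← map_mul, ← map_inv, ← map_inv, ← map_mul, ← map_mul]
      congr 1
      apply Subtype.ext
      show (tv v (c / (χ ^ 2 - 1)))⁻¹ * ((a : GL I4 F) * tv v (c / (χ ^ 2 - 1)) * (a : GL I4 F)⁻¹) = tv v c
      have h4 : ((a : GL I4 F) : Matrix I4 I4 F) *ᵥ v = χ • v := hva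
      rw [conj_tv (hPS a.2) h4, tv_inv, tv_mul]
      congr 1
      field_simp
      ring
    rw [← h3]
    exact h1
  -- they are unipotent elements of `P`
  have hex : ∀ c, ∃ b, tv v c = y b := by
    intro c
    obtain ⟨n, ⟨b, hb⟩, hn⟩ := cent_unip hNn hNA hNc φ (hmem c) (hz c)
    refine ⟨b, ?_⟩
    have h1 : n = ⟨f (y b), y b, rfl⟩ := by
      apply φ.injective
      rw [hb, hφ, hy]
    rw [h1] at hn
    have h3 : m.π (s c) = m.π ⟨y b, hPS (y b).2⟩ := hn
    obtain ⟨ζ, hζ, h4⟩ := (m.π_eq_iff _ _).1 h3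
    have h4 : tv v c = (y b : GL I4 F) * ζ := h4
    rw [mem_scalars_iff] at hζ
    obtain ⟨κ, hκ⟩ := hζ
    have hcomm : Commute (y b : GL I4 F) ζ := by
      apply Units.ext
      rw [Units.val_mul, Units.val_mul, hκ, Matrix.mul_smul, Matrix.mul_one, Matrix.smul_mul, Matrix.one_mul]
    have h6 : tv v c ^ p = 1 := by rw [tv_pow, CharP.cast_eq_zero, zero_mul, tv_zero]
    have h7 : (y b : GL I4 F) ^ p = 1 := congrArg Subtype.val (hyp b)
    rw [h4, hcomm.mul_pow, h7, one_mul] at h6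
    have h8 : (κ : F) ^ p = 1 := by
      have h9 := congrArg (fun g : GL I4 F => (g : Matrix I4 I4 F) (Sum.inl 0) (Sum.inl 0)) h6
      simp only [Units.val_pow_eq_pow_val, hκ, smul_pow, one_pow, Units.val_one] at h9
      simpa using h9
    have h9 : (κ : F) = 1 := by
      apply frobenius_inj F p
      rw [frobenius_def, frobenius_def, h8, one_pow]
    have h10 : ζ = 1 := by
      apply Units.ext
      rw [hκ, h9, one_smul, Units.val_one]
    rw [h4, h10, mul_one]
  choose β hβ using hex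
  have hinj : Function.Injective (fun c => Multiplicative.toAdd (β c)) := by
    intro c d hcd
    have h1 : β c = β d := Multiplicative.toAdd.injective hcd
    apply tv_inj hv0
    rw [hβ, hβ, h1]
  have hsurj := Finite.injective_iff_surjective.1 hinj
  have hall : ∀ b, ∃ c, (y b : GL I4 F) = tv v c := by
    intro b
    obtain ⟨c, hc⟩ := hsurj (Multiplicative.toAdd b)
    have h1 : β c = b := Multiplicative.toAdd.injective hc
    exact ⟨c, by rw [hβ, h1]⟩
  refine quad_false ctx core.absIrred hp (by omega) e ?_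
  intro x hx hxp
  have hxp' : (⟨x, hx⟩ : P) ^ p = 1 := Subtype.ext hxp
  obtain ⟨g, b, hg⟩ := conj_lift hcov hodd hy hyp hxp'
  obtain ⟨c, hc⟩ := hall b
  refine ⟨2, ?_⟩
  have h1 : x = (g : GL I4 F)⁻¹ * tv v c * g := by
    rw [← hc, ← hg]
    show x = (g : GL I4 F)⁻¹ * ((g : GL I4 F) * x * (g : GL I4 F)⁻¹) * g
    group
  have h3 : x⁻¹ = (g : GL I4 F)⁻¹ * (tv v c)⁻¹ * g := by
    rw [h1]
    group
  rw [h3, h1, Units.val_mul, Units.val_mul, Units.val_mul, Units.val_mul, ← Matrix.add_mul, ← Matrix.mul_add,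
    tv_add_inv, Matrix.mul_smul, Matrix.smul_mul, Matrix.mul_one, ← Units.val_mul, inv_mul_cancel, Units.val_one]

end Cfsg.Agent.H686.EP
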