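import Cfsg.Agent.H686.EP.Wpm
import Cfsg.Agent.H686.EP.L2Gen

/-!
# `SL_2(q)` in `Sp_4(q)`: the torus acts nontrivially on a fixed vector of the unipotent group (helper686)
-/

set_option autoImplicit false

namespace Cfsg.Agent.H686.EP

open Cfsg Cfsg.Geo Matrix Module
open Cfsg.Agent.H909 Cfsg.Agent.H909.SpDouble
open Cfsg.Agent.H906 (unP dg dg_val dg_pow un)
open Cfsg.Agent.H587.Sp (ww pr pr_cov lift_conj mk_eq_one_of_sq exists_next)

section eig

variable {F V : Type*} [Field F] [Fintype F] [AddCommGroup V] [Module F V]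

/-- an operator `A` with `A^(q-1) = 1` has an eigenvector in every nonzero invariant subspace -/
theorem exists_eig {A : End F V} (hA : A ^ (Fintype.card F - 1) = 1) {C : Submodule F V}
    (hC : ∀ v ∈ C, A v ∈ C) {u : V} (hu : u ∈ C) (hu0 : u ≠ 0) : ∃ v ∈ C, v ≠ 0 ∧ ∃ χ : F, A v = χ • v := by
  classical
  by_contra hcon
  push Not at hcon
  set n := Fintype.card F - 1 with hn
  have hn0 : 0 < n := by have := Fintype.one_lt_card (α := F); omega
  have hpow : ∀ k : ℕ, ∀ v ∈ C, (A ^ k) v ∈ C := by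
    intro k
    induction k with
    | zero => intro v hv; exact hv
    | succ k ih =>
      intro v hv
      rw [pow_succ', End.mul_apply]
      exact hC _ (ih v hv)
  have hz : ∀ κ : Fˣ, gs n ((κ : F) • A) u = 0 := by
    intro κ
    by_contra hne
    have hmem : gs n ((κ : F) • A) u ∈ C := by
      rw [gs, LinearMap.sum_apply]
      apply Submodule.sum_mem
      intro k _
      rw [smul_pow, LinearMap.smul_apply]
      exact C.smul_mem _ (hpow k u hu)
    apply hcon _ hmem hne ((κ⁻¹ : Fˣ) : F)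
    have h1 : ((κ : F) • A) ^ n = 1 := by
      rw [smul_pow, hA, hn, FiniteField.pow_card_sub_one_eq_one _ κ.ne_zero, one_smul]
    have h2 := congrArg (fun T : End F V => T u) (mul_gs h1)
    change (κ : F) • A (gs n ((κ : F) • A) u) = gs n ((κ : F) • A) u at h2
    conv_rhs => rw [← h2]
    rw [smul_smul, Units.val_inv_eq_inv_val, inv_mul_cancel₀ κ.ne_zero, one_smul]
  apply hu0
  have h3 : ∑ κ : Fˣ, gs n ((κ : F) • A) u = -u := by
    have h4 : ∀ κ : Fˣ, gs n ((κ : F) • A) u = ∑ k ∈ Finset.range n, ((κ : F) ^ k) • (A ^ k) u := by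
      intro κ
      rw [gs, LinearMap.sum_apply]
      refine Finset.sum_congr rfl fun k _ => ?_
      rw [smul_pow, LinearMap.smul_apply]
    rw [Finset.sum_congr rfl fun κ _ => h4 κ, Finset.sum_comm]
    have h5 : ∀ k ∈ Finset.range n, ∑ κ : Fˣ, ((κ : F) ^ k) • (A ^ k) u = if k = 0 then -u else 0 := by
      intro k hk
      rw [← Finset.sum_smul]
      have h6 := FiniteField.sum_pow_units F k
      rw [h6]
      by_cases hk0 : k = 0
      · rw [if_pos hk0, hk0, if_pos (dvd_zero _), neg_one_smul]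
        rfl
      · rw [if_neg hk0, if_neg, zero_smul]
        intro h7
        have := Nat.le_of_dvd (Nat.pos_of_ne_zero hk0) h7
        have := Finset.mem_range.1 hk
        omega
    rw [Finset.sum_congr rfl h5, Finset.sum_ite_eq', if_pos (Finset.mem_range.2 hn0)]
  rw [Finset.sum_congr rfl fun κ _ => hz κ, Finset.sum_const_zero] at h3
  exact neg_eq_zero.1 h3.symm

end eig

variable {F : Type*} [Field F] {P : Subgroup (GL I4 F)}

/-- the representation -/
def R (P : Subgroup (GL I4 F)) : P →* End F (I4 → F) :=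
  ((Matrix.toLinAlgEquiv' : Matrix I4 I4 F ≃ₐ[F] _) : Matrix I4 I4 F →* _).comp
    ((Units.coeHom (Matrix I4 I4 F)).comp P.subtype)

theorem R_apply (g : P) (v : I4 → F) : R P g v = ((g : GL I4 F) : Matrix I4 I4 F) *ᵥ v := rfl

theorem R_neg (ctx : Ctx P) [Finite F] : R P (Ctx.neg ctx.neg_one_mem) = -1 := by
  apply LinearMap.ext
  intro v
  rw [R_apply]
  show (((-1 : GL I4 F)) : Matrix I4 I4 F) *ᵥ v = -v
  rw [Units.val_neg, Units.val_one, Matrix.neg_mulVec, Matrix.one_mulVec]

theorem R_of_eq [Finite F] (ctx : Ctx P) {X : Type*} [Group X] (e : (P ⧸ Zs P) ≃* X) {x y : P}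
    (h : pr e x = pr e y) : ∃ s : F, (s = 1 ∨ s = -1) ∧ R P x = s • R P y := by
  rcases (pr_cov ctx e).eq_or h with h1 | h1
  · exact ⟨1, Or.inl rfl, by rw [h1, one_smul]⟩
  · refine ⟨-1, Or.inr rfl, ?_⟩
    apply LinearMap.ext
    intro w
    rw [h1, map_mul, R_neg ctx, LinearMap.smul_apply, neg_smul, one_smul, Module.End.mul_apply, LinearMap.neg_apply,
      Module.End.one_apply]

variable [Fintype F]

theorem exists_vec (ctx : Ctx P) (irr : ActsIrreducibly (matrixSet P)) {p : ℕ} [hp : Fact p.Prime] [CharP F p]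
    (h5 : 5 ≤ p) (h7 : 7 < Fintype.card F) (e : (P ⧸ Zs P) ≃* Matrix.ProjectiveSpecialLinearGroup (Fin 2) F)
    {t : Fˣ} (ht : ∀ x : Fˣ, x ∈ Subgroup.zpowers t) {a : P} (ha : pr e a = QuotientGroup.mk (dg t))
    {y : Multiplicative F →* P} (hy : ∀ b, pr e (y b) = unP F b) (hyp : ∀ b, y b ^ p = 1) :
    ∃ (v : I4 → F) (χ : F), v ≠ 0 ∧ (∀ b, R P (y b) v = v) ∧ R P a v = χ • v ∧ χ * χ ≠ 1 := by
  classical
  have hcov := pr_cov ctx e
  have hpodd : Odd p := hp.out.odd_of_ne_two (by omega)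
  have h7' : 7 < Nat.card F := by rwa [Nat.card_eq_fintype_card]
  obtain ⟨w0, hw0⟩ := hcov.surj (QuotientGroup.mk (ww F))
  set Y : F → End F (I4 → F) := fun b => R P (y (Multiplicative.ofAdd b)) with hYdef
  have hodd : Odd (Fintype.card F) := by
    obtain ⟨n, -, hn⟩ := FiniteField.card F p
    rw [hn]
    exact hpodd.pow
  obtain ⟨m, hm⟩ := hodd
  -- powers of the torus element
  have hAn : R P a ^ (Fintype.card F - 1) = 1 := by
    have h1 : pr e (a ^ m) = 1 := by
      rw [map_pow, ha, ← QuotientGroup.mk_pow]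
      apply mk_eq_one_of_sq ctx.two
      rw [← pow_mul, dg_pow]
      have h2 : t ^ (m * 2) = 1 := by
        have h3 : m * 2 = Fintype.card F - 1 := by omega
        rw [h3, ← Fintype.card_units]
        exact pow_card_eq_one
      rw [h2]
      apply Subtype.ext
      rw [dg_val]
      ext i j
      fin_cases i <;> fin_cases j <;> simp
    have h4 : Fintype.card F - 1 = m * 2 := by omega
    rw [← map_pow, h4, pow_mul]
    rcases (hcov.ker _).1 h1 with h2 | h2
    · rw [h2, one_pow, map_one]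
    · rw [h2, pow_two, hcov.sq, map_one]
  have hY : ∀ b c, Y (b + c) = Y b * Y c := by
    intro b c
    simp only [hYdef]
    rw [ofAdd_add, map_mul, map_mul]
  have hY0 : Y 0 = 1 := by
    simp only [hYdef]
    rw [ofAdd_zero, map_one, map_one]
  have hAY : ∀ b, R P a * Y b = Y ((t : F) ^ 2 * b) * R P a := by
    intro b
    have h1 := lift_conj hcov hpodd hy hyp ha b
    simp only [hYdef]
    rw [← h1, ← map_mul, ← map_mul, inv_mul_cancel_right]
  have hYn : ∀ c, (Y c - 1) ^ 4 = 0 := by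
    intro c
    have h1 : IsNilpotent (Y c - 1) := by
      refine ⟨p, ?_⟩
      have h2 : CharP (End F (I4 → F)) p := by
        refine ⟨fun x => ?_⟩
        rw [← CharP.cast_eq_zero_iff F p x]
        constructor
        · intro h
          have h3 := congrFun (congrArg (fun T : End F (I4 → F) => T (Pi.single (Sum.inl 0) 1)) h) (Sum.inl 0)
          simpa using h3
        · intro h
          have h3 : ((x : ℕ) : End F (I4 → F)) = algebraMap F _ (x : F) := (map_natCast _ x).symm
          rw [h3, h, map_zero]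
      rw [sub_pow_char_of_commute _ (Commute.one_right (Y c)), one_pow]
      simp only [hYdef]
      rw [← map_pow, hyp, map_one, sub_self]
    have h2 := (LinearMap.isNilpotent_iff_charpoly _).1 h1
    have h3 := LinearMap.aeval_self_charpoly (Y c - 1)
    rw [h2, map_pow, Polynomial.aeval_X, Module.finrank_fintype_fun_eq_card] at h3
    simpa using h3
  -- the fixed space
  let C : Submodule F (I4 → F) :=
    { carrier := {v | ∀ b, R P (y b) v = v}
      add_mem' := fun {u v} hu hv b => by rw [map_add, hu b, hv b]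
      zero_mem' := fun b => map_zero _
      smul_mem' := fun c v hv b => by rw [map_smul, hv b] }
  have hCa : ∀ v ∈ C, R P a v ∈ C := by
    intro v hv b
    have h1 := hAY (((t : F) ^ 2)⁻¹ * Multiplicative.toAdd b)
    rw [← mul_assoc, mul_inv_cancel₀ (pow_ne_zero _ t.ne_zero), one_mul] at h1
    have h2 := congrArg (fun T : End F (I4 → F) => T v) h1
    change R P a (Y _ v) = R P (y b) (R P a v) at h2
    rw [← h2]
    congr 1
    exact hv _
  obtain ⟨u, hu0, hu⟩ : ∃ u, u ≠ 0 ∧ u ∈ C := by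
    have hSp : IsPGroup p y.range := by
      rintro ⟨_, b, rfl⟩
      exact ⟨1, Subtype.ext (by rw [pow_one]; exact hyp b)⟩
    obtain ⟨v, hv, hv'⟩ := exists_next p ((Units.coeHom (Matrix I4 I4 F)).comp P.subtype) hSp ⊥ (by
      intro h
      have h3 := congrArg (fun W : Submodule F (I4 → F) => Module.finrank F W) h
      simp at h3) (by
      intro s _ v hv
      rw [Submodule.mem_bot] at hv ⊢
      rw [hv, Matrix.mulVec_zero])
    refine ⟨v, fun h => hv (by rw [h]; exact Submodule.zero_mem _), fun b => ?_⟩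
    have h3 := hv' (y b) ⟨b, rfl⟩
    rw [Submodule.mem_bot, sub_eq_zero] at h3
    exact h3
  obtain ⟨v, hvC, hv0, χ, hχ⟩ := exists_eig hAn hCa hu hu0
  refine ⟨v, χ, hv0, hvC, hχ, fun hχ2 => ?_⟩
  -- contradiction when `χ^2 = 1`
  obtain ⟨ζ', hζ', hW⟩ : ∃ s : F, (s = 1 ∨ s = -1) ∧ R P w0 * R P w0 = s • 1 := by
    have h1 : pr e (w0 * w0) = pr e 1 := by
      rw [map_mul, hw0, map_one, ← QuotientGroup.mk_mul]
      exact ww_sq
    obtain ⟨s, hs, h2⟩ := R_of_eq ctx e h1
    rw [map_mul, map_one] at h2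
    exact ⟨s, hs, h2⟩
  obtain ⟨ζ, hζ, hAW⟩ : ∃ s : F, (s = 1 ∨ s = -1) ∧ R P a * R P w0 * R P a = s • R P w0 := by
    have h1 : pr e (a * w0 * a) = pr e w0 := by
      rw [map_mul, map_mul, hw0, ha, ← QuotientGroup.mk_mul, ← QuotientGroup.mk_mul, dg_ww_dg]
    obtain ⟨s, hs, h2⟩ := R_of_eq ctx e h1
    rw [map_mul, map_mul] at h2
    exact ⟨s, hs, h2⟩
  have hWY : ∀ b : F, b ≠ 0 → ∃ (k : ℕ) (b1 s : F), (s = 1 ∨ s = -1) ∧
      R P w0 * Y b * R P w0 = s • (Y (-b⁻¹) * R P w0 * R P a ^ k * Y b1) := by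
    intro b hb
    obtain ⟨k, hk⟩ := (mem_powers_iff_mem_zpowers (x := t) (y := -(Units.mk0 b hb))).2 (ht _)
    have hk' : t ^ k = -(Units.mk0 b hb) := hk
    have h1 : pr e (w0 * y (Multiplicative.ofAdd b) * w0) =
        pr e (y (Multiplicative.ofAdd (-b⁻¹)) * w0 * a ^ k * y (Multiplicative.ofAdd (-b⁻¹))) := by
      rw [map_mul, map_mul, map_mul, map_mul, map_mul, map_pow, hw0, ha, hy, hy]
      have h2 := congrArg (fun g => (QuotientGroup.mk g : Matrix.ProjectiveSpecialLinearGroup (Fin 2) F))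
        (ww_un_ww hb)
      rw [← hk', ← dg_pow] at h2
      exact h2
    obtain ⟨s, hs, h2⟩ := R_of_eq ctx e h1
    refine ⟨k, -b⁻¹, s, hs, ?_⟩
    simpa only [map_mul, map_pow, hYdef] using h2
  have hχ' : χ = 1 ∨ χ = -1 := mul_self_eq_one_iff.1 hχ2
  have hfin := w_pm hp.out h5 h7' Y (R P a) (R P w0) ht hY hY0 hYn hAY hAn hζ hζ' hW hAW hWY hv0
    (fun b => hvC _) hχ' hχ
  -- the line is invariant
  have hline : ∀ g : P, ∃ s : F, R P g v = s • v := by
    let H : Subgroup P :=
      { carrier := {g | (∃ s : F, R P g v = s • v) ∧ ∃ s : F, R P g⁻¹ v = s • v}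
        one_mem' := ⟨⟨1, by rw [map_one, one_smul]; rfl⟩, ⟨1, by rw [inv_one, map_one, one_smul]; rfl⟩⟩
        mul_mem' := by
          rintro g h ⟨⟨s, hs⟩, ⟨s', hs'⟩⟩ ⟨⟨r, hr⟩, ⟨r', hr'⟩⟩
          refine ⟨⟨r * s, ?_⟩, ⟨s' * r', ?_⟩⟩
          · rw [map_mul, End.mul_apply, hr, map_smul, hs, smul_smul]
          · rw [_root_.mul_inv_rev, map_mul, End.mul_apply, hs', map_smul, hr', smul_smul]
        inv_mem' := by
          rintro g ⟨h1, h2⟩
          exact ⟨h2, by rwa [inv_inv]⟩ }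
    have hinv : ∀ g : P, (R P g v = v ∨ R P g v = -v) → g ∈ H := by
      intro g hg
      have h1 : R P g⁻¹ (R P g v) = v := by
        rw [← End.mul_apply, ← map_mul, inv_mul_cancel, map_one]
        rfl
      rcases hg with hg | hg
      · exact ⟨⟨1, by rw [hg, one_smul]⟩, ⟨1, by rw [hg] at h1; rw [h1, one_smul]⟩⟩
      · refine ⟨⟨-1, by rw [hg, neg_one_smul]⟩, ⟨-1, ?_⟩⟩
        rw [hg, map_neg] at h1
        rw [neg_one_smul, ← h1, neg_neg, h1]
    have hHt : H.map (pr e) = ⊤ := by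
      apply psl_gen (g := ww F)
      · intro x
        exact ⟨y (Multiplicative.ofAdd x), hinv _ (Or.inl (hvC _)), hy _⟩
      · show !![(0 : F), 1; -1, 0] 1 0 ≠ 0
        simp
      · exact ⟨w0, hinv _ hfin, hw0⟩
    intro g
    have h1 : pr e g ∈ H.map (pr e) := by rw [hHt]; trivial
    obtain ⟨h, hh, hhg⟩ := h1
    obtain ⟨s, hs, h2⟩ := R_of_eq ctx e hhg.symm
    obtain ⟨⟨r, hr⟩, -⟩ := hh
    exact ⟨s * r, by rw [h2, LinearMap.smul_apply, hr, smul_smul]⟩
  rcases irr (Submodule.span F {v}) (by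
    rintro _ ⟨g, hg, rfl⟩
    rw [Submodule.map_span, Set.image_singleton, Submodule.span_singleton_le_iff_mem]
    obtain ⟨s, hs⟩ := hline ⟨g, hg⟩
    rw [Matrix.toLin'_apply]
    have h1 : ((g : GL I4 F) : Matrix I4 I4 F) *ᵥ v = s • v := hs
    rw [h1]
    exact Submodule.smul_mem _ _ (Submodule.mem_span_singleton_self v)) with h | h
  · rw [Submodule.span_singleton_eq_bot] at h
    exact hv0 h
  · have h1 := finrank_span_singleton (K := F) hv0
    rw [h, finrank_top, Module.finrank_fintype_fun_eq_card] at h1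
    simp at h1

end Cfsg.Agent.H686.EP
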