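import Mathlib

/-!
# Functions on a finite field with vanishing fourth differences (helper686)

`const_of_sum` : `h : F → E` with vanishing sums on all `F_p`-lines, `|F| > p`, at most two values on `F^*`: constant.
`const_of_diff` : the same with vanishing fourth differences, `p ≥ 11`.
`const_line` : both together, `q > 7`, `p ≥ 5`.
-/

set_option autoImplicit false

namespace Cfsg.Agent.H686.EP

variable {F E : Type*} [Field F] [AddCommGroup E] [Module F E]

/-- one line: two values and sum zero -/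
theorem line_const {p : ℕ} (hp : p.Prime) [CharP F p] {s : ℕ → E} {α β : E}
    (h2 : ∀ m, m < p → s m = α ∨ s m = β) (hs : ∑ m ∈ Finset.range p, s m = 0) : s 0 = s 1 := by
  classical
  by_cases hab : α = β
  · rcases h2 0 hp.pos with h | h <;> rcases h2 1 hp.one_lt with h' | h' <;> rw [h, h'] <;>
      first | rfl | exact hab | exact hab.symm
  set S := (Finset.range p).filter fun m => s m = α with hS
  have h1 : ∑ m ∈ Finset.range p, s m = S.card • (α - β) := by
    have h3 : ∀ m ∈ Finset.range p, s m = (if s m = α then (α - β) else 0) + β := by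
      intro m hm
      by_cases h4 : s m = α
      · rw [if_pos h4, h4]; abel
      · rw [if_neg h4, zero_add]
        exact (h2 m (Finset.mem_range.1 hm)).resolve_left h4
    rw [Finset.sum_congr rfl h3, Finset.sum_add_distrib, Finset.sum_const, Finset.card_range, ← Finset.sum_filter,
      Finset.sum_const]
    have h4 : p • β = 0 := by
      have : (p : F) • β = 0 := by rw [CharP.cast_eq_zero, zero_smul]
      rwa [Nat.cast_smul_eq_nsmul] at this
    rw [h4, add_zero]
  rw [h1, ← Nat.cast_smul_eq_nsmul F] at hs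
  have h5 : ((S.card : ℕ) : F) = 0 := (smul_eq_zero.1 hs).resolve_right (sub_ne_zero.2 hab)
  have h6 : p ∣ S.card := (CharP.cast_eq_zero_iff F p _).1 h5
  have h7 : S.card ≤ p := by
    have := Finset.card_filter_le (Finset.range p) fun m => s m = α
    rwa [Finset.card_range] at this
  have h8 : S.card = 0 ∨ S.card = p := by
    obtain ⟨k, hk⟩ := h6
    rcases Nat.lt_or_ge k 1 with h | h
    · left
      have : k = 0 := by omega
      rw [hk, this, mul_zero]
    · right
      nlinarith [hp.pos]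
  rcases h8 with h8 | h8
  · have h9 : ∀ m, m < p → s m = β := by
      intro m hm
      refine (h2 m hm).resolve_left fun h => ?_
      have : m ∈ S := Finset.mem_filter.2 ⟨Finset.mem_range.2 hm, h⟩
      rw [Finset.card_eq_zero.1 h8] at this
      simp at this
    rw [h9 0 hp.pos, h9 1 hp.one_lt]
  · have h9 : ∀ m, m < p → s m = α := by
      intro m hm
      have : S = Finset.range p := by
        apply Finset.eq_of_subset_of_card_le (Finset.filter_subset _ _)
        rw [Finset.card_range, h8]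
      have hm' : m ∈ S := by rw [this]; exact Finset.mem_range.2 hm
      exact (Finset.mem_filter.1 hm').2
    rw [h9 0 hp.pos, h9 1 hp.one_lt]

theorem const_of_sum [Finite F] {p : ℕ} (hp : p.Prime) [CharP F p] (hF : p < Nat.card F) (h : F → E)
    (hs : ∀ x c : F, ∑ m ∈ Finset.range p, h (x + (m : F) * c) = 0) {α β : E}
    (h2 : ∀ b, b ≠ 0 → h b = α ∨ h b = β) : ∀ b, h b = h 0 := by
  classical
  have hfp : Fact p.Prime := ⟨hp⟩
  let alg : Algebra (ZMod p) F := ZMod.algebra F p
  have hcast : ∀ m : ℕ, ((m : ZMod p)) • (1 : F) = (m : F) := by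
    intro m
    rw [Algebra.smul_def, mul_one, map_natCast]
  -- lines which do not pass through `0`
  have h3 : ∀ x c : F, (∀ m : ℕ, x + (m : F) * c ≠ 0) → h x = h (x + c) := by
    intro x c hx
    have := line_const (F := F) hp (s := fun m => h (x + (m : F) * c)) (fun m _ => h2 _ (hx m)) (hs x c)
    simpa using this
  -- `x`, `y` not proportional
  have h4 : ∀ x y : F, x ≠ 0 → (y ∉ Submodule.span (ZMod p) {x}) → h x = h y := by
    intro x y hx hy
    have h5 := h3 x (y - x) (by
      intro m hm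
      have h6 : (m : F) * y = ((m : F) - 1) * x := by linear_combination hm
      by_cases hm0 : (m : F) = 0
      · rw [hm0, zero_mul, zero_sub, neg_one_mul, eq_comm, neg_eq_zero] at h6
        exact hx h6
      · apply hy
        rw [Submodule.mem_span_singleton]
        refine ⟨((m : ZMod p))⁻¹ * ((m : ZMod p) - 1), ?_⟩
        rw [Algebra.smul_def, map_mul, map_inv₀, map_sub, map_one, map_natCast, mul_assoc, ← h6, ← mul_assoc,
          inv_mul_cancel₀ hm0, one_mul])
    rw [h5]
    congr 1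
    ring
  have hex : ∀ x : F, ∃ z, z ∉ Submodule.span (ZMod p) {x} := by
    intro x
    by_contra hno
    push Not at hno
    have h5 : Function.Surjective (fun k : ZMod p => k • x) := by
      intro z
      obtain ⟨k, hk⟩ := Submodule.mem_span_singleton.1 (hno z)
      exact ⟨k, hk⟩
    have h6 := Nat.card_le_card_of_surjective _ h5
    rw [Nat.card_zmod] at h6
    omega
  have h5 : ∀ x y : F, x ≠ 0 → y ≠ 0 → h x = h y := by
    intro x y hx hy
    by_cases hxy : y ∈ Submodule.span (ZMod p) {x}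
    · obtain ⟨z, hz⟩ := hex x
      have hz' : z ∉ Submodule.span (ZMod p) {y} := by
        intro hz'
        apply hz
        have h6 : Submodule.span (ZMod p) {y} ≤ Submodule.span (ZMod p) {x} := by
          rw [Submodule.span_singleton_le_iff_mem]
          exact hxy
        exact h6 hz'
      rw [h4 x z hx hz, h4 y z hy hz']
    · exact h4 x y hx hxy
  intro b
  by_cases hb : b = 0
  · rw [hb]
  -- the line through `0` and `b`
  have h6 := hs 0 b
  have hp1 : p = (p - 1) + 1 := by have := hp.pos; omega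
  rw [hp1, Finset.sum_range_succ'] at h6
  have h7 : ∀ m ∈ Finset.range (p - 1), h (0 + ((m + 1 : ℕ) : F) * b) = h b := by
    intro m hm
    apply h5 _ _ _ hb
    rw [zero_add]
    apply mul_ne_zero _ hb
    intro h8
    have h9 : p ∣ m + 1 := (CharP.cast_eq_zero_iff F p _).1 h8
    have := Nat.le_of_dvd (Nat.succ_pos m) h9
    have := Finset.mem_range.1 hm
    omega
  rw [Finset.sum_congr rfl h7, Finset.sum_const, Finset.card_range, Nat.cast_zero, zero_mul, add_zero,
    ← Nat.cast_smul_eq_nsmul F] at h6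
  have h8 : ((p - 1 : ℕ) : F) = -1 := by
    rw [Nat.cast_sub hp.one_lt.le, CharP.cast_eq_zero, Nat.cast_one, zero_sub]
  rw [h8, neg_one_smul, neg_add_eq_zero] at h6
  exact h6

theorem bool_cubic : ∀ e : Fin 8 → Fin 2,
    (∀ m : Fin 4, ((e ⟨m.1, by omega⟩).1 : ℤ) - 4 * (e ⟨m.1 + 1, by omega⟩).1 + 6 * (e ⟨m.1 + 2, by omega⟩).1 -
      4 * (e ⟨m.1 + 3, by omega⟩).1 + (e ⟨m.1 + 4, by omega⟩).1 = 0) → e 0 = e 1 ∧ e 1 = e 2 ∧ e 2 = e 3 := by
  decide +kernel

theorem const_of_diff {p : ℕ} (hp : p.Prime) [CharP F p] (h11 : 11 ≤ p) (h : F → E)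
    (hd : ∀ x c : F, h x - (4 : F) • h (x + c) + (6 : F) • h (x + 2 * c) - (4 : F) • h (x + 3 * c) +
      h (x + 4 * c) = 0) {α β : E}
    (h2 : ∀ b, b ≠ 0 → h b = α ∨ h b = β) : ∀ b, h b = h 0 := by
  classical
  intro c
  by_cases hc : c = 0
  · rw [hc]
  by_cases hab : α = β
  · subst hab
    have h3 : ∀ b, b ≠ 0 → h b = α := fun b hb => by rcases h2 b hb with h | h <;> exact h
    have hne : ∀ m : ℕ, 0 < m → m < p → (m : F) * c ≠ 0 := by
      intro m hm0 hm
      apply mul_ne_zero _ hc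
      intro h8
      have h9 : p ∣ m := (CharP.cast_eq_zero_iff F p _).1 h8
      have := Nat.le_of_dvd hm0 h9
      omega
    have h4 := hd 0 c
    rw [zero_add, zero_add, zero_add, zero_add, h3 c hc,
      h3 (2 * c) (by have := hne 2 (by norm_num) (by omega); exact_mod_cast this),
      h3 (3 * c) (by have := hne 3 (by norm_num) (by omega); exact_mod_cast this),
      h3 (4 * c) (by have := hne 4 (by norm_num) (by omega); exact_mod_cast this)] at h4
    rw [h3 c hc]
    have h5 : h 0 - α = 0 := by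
      rw [← h4]
      module
    exact (sub_eq_zero.1 h5).symm
  -- the values at `m c`
  have hne : ∀ m : ℕ, 0 < m → m < p → (m : F) * c ≠ 0 := by
    intro m hm0 hm
    apply mul_ne_zero _ hc
    intro h8
    have h9 : p ∣ m := (CharP.cast_eq_zero_iff F p _).1 h8
    have := Nat.le_of_dvd hm0 h9
    omega
  have hval : ∀ m : Fin 8, ∃ e : Fin 2, h (((m.1 + 1 : ℕ) : F) * c) = β + (((e.1 : ℕ) : ℤ) : F) • (α - β) := by
    intro m
    rcases h2 _ (hne (m.1 + 1) (Nat.succ_pos _) (by omega)) with h3 | h3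
    · exact ⟨1, by rw [h3]; simp⟩
    · exact ⟨0, by rw [h3]; simp⟩
  choose e he using hval
  have hrel : ∀ m : Fin 4, ((e ⟨m.1, by omega⟩).1 : ℤ) - 4 * (e ⟨m.1 + 1, by omega⟩).1 + 6 * (e ⟨m.1 + 2, by omega⟩).1 -
      4 * (e ⟨m.1 + 3, by omega⟩).1 + (e ⟨m.1 + 4, by omega⟩).1 = 0 := by
    intro m
    set z : ℤ := ((e ⟨m.1, by omega⟩).1 : ℤ) - 4 * (e ⟨m.1 + 1, by omega⟩).1 + 6 * (e ⟨m.1 + 2, by omega⟩).1 -
      4 * (e ⟨m.1 + 3, by omega⟩).1 + (e ⟨m.1 + 4, by omega⟩).1 with hz
    have h3 := hd (((m.1 + 1 : ℕ) : F) * c) c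
    have e1 : ((m.1 + 1 : ℕ) : F) * c + c = ((m.1 + 1 + 1 : ℕ) : F) * c := by push_cast; ring
    have e2 : ((m.1 + 1 : ℕ) : F) * c + 2 * c = ((m.1 + 2 + 1 : ℕ) : F) * c := by push_cast; ring
    have e3 : ((m.1 + 1 : ℕ) : F) * c + 3 * c = ((m.1 + 3 + 1 : ℕ) : F) * c := by push_cast; ring
    have e4 : ((m.1 + 1 : ℕ) : F) * c + 4 * c = ((m.1 + 4 + 1 : ℕ) : F) * c := by push_cast; ring
    rw [e1, e2, e3, e4, he ⟨m.1, by omega⟩, he ⟨m.1 + 1, by omega⟩, he ⟨m.1 + 2, by omega⟩, he ⟨m.1 + 3, by omega⟩,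
      he ⟨m.1 + 4, by omega⟩] at h3
    have h4 : (z : F) • (α - β) = 0 := by
      rw [← h3, hz]
      push_cast
      module
    have h5 : (z : F) = 0 := (smul_eq_zero.1 h4).resolve_right (sub_ne_zero.2 hab)
    have h6 : (p : ℤ) ∣ z := (CharP.intCast_eq_zero_iff F p z).1 h5
    have h7 : |z| ≤ 8 := by
      have b0 := (e ⟨m.1, by omega⟩).2
      have b1 := (e ⟨m.1 + 1, by omega⟩).2
      have b2 := (e ⟨m.1 + 2, by omega⟩).2
      have b3 := (e ⟨m.1 + 3, by omega⟩).2
      have b4 := (e ⟨m.1 + 4, by omega⟩).2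
      rw [abs_le]
      constructor <;> omega
    by_contra h8
    have h9 := Int.le_of_dvd (abs_pos.2 h8) ((dvd_abs _ _).2 h6)
    omega
  obtain ⟨h3, h4, h5⟩ := bool_cubic e hrel
  have h6 := hd 0 c
  have e1 : (0 : F) + c = (((0 : Fin 8).1 + 1 : ℕ) : F) * c := by simp
  have e2 : (0 : F) + 2 * c = (((1 : Fin 8).1 + 1 : ℕ) : F) * c := by norm_num
  have e3 : (0 : F) + 3 * c = (((2 : Fin 8).1 + 1 : ℕ) : F) * c := by norm_num
  have e4 : (0 : F) + 4 * c = (((3 : Fin 8).1 + 1 : ℕ) : F) * c := by norm_num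
  have e0 : c = (((0 : Fin 8).1 + 1 : ℕ) : F) * c := by simp
  rw [e1, e2, e3, e4, he, he, he, he, ← h5, ← h4, ← h3] at h6
  rw [e0, he]
  have h7 : h 0 - (β + (((e 0).1 : ℤ) : F) • (α - β)) = 0 := by
    rw [← h6]
    module
  exact (sub_eq_zero.1 h7).symm

/-- **The line lemma.** -/
theorem const_line [Finite F] {p : ℕ} (hp : p.Prime) [CharP F p] (h5 : 5 ≤ p) (h7 : 7 < Nat.card F) (h : F → E)
    (hs : ∀ x c : F, ∑ m ∈ Finset.range p, h (x + (m : F) * c) = 0)
    (hd : ∀ x c : F, h x - (4 : F) • h (x + c) + (6 : F) • h (x + 2 * c) - (4 : F) • h (x + 3 * c) +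
      h (x + 4 * c) = 0) {α β : E}
    (h2 : ∀ b, b ≠ 0 → h b = α ∨ h b = β) : ∀ b, h b = h 0 := by
  by_cases h11 : 11 ≤ p
  · exact const_of_diff hp h11 h hd h2
  · apply const_of_sum hp _ h hs h2
    have h8 : p ≤ 7 := by
      by_contra h8
      have h9 : p = 8 ∨ p = 9 ∨ p = 10 := by omega
      rcases h9 with rfl | rfl | rfl <;> revert hp <;> decide
    omega

end Cfsg.Agent.H686.EP
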