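import Cfsg.Agent.H686.EP.LineFn

/-!
# A vector fixed by the unipotent group of `SL_2(q)` on which the torus acts by signs (helper686)

`w_pm` : such a vector is mapped to `± v` by the Weyl element, if the unipotent elements satisfy `(y - 1)^4 = 0`
(`q > 7`, `p ≥ 5`).
-/

set_option autoImplicit false

namespace Cfsg.Agent.H686.EP

open Module

section geom

variable {F V : Type*} [Field F] [AddCommGroup V] [Module F V]

/-- the geometric sum -/
def gs (n : ℕ) (T : End F V) : End F V := ∑ k ∈ Finset.range n, T ^ k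

theorem mul_gs {n : ℕ} {T : End F V} (hT : T ^ n = 1) : T * gs n T = gs n T := by
  have h1 : T * gs n T = ∑ k ∈ Finset.range n, T ^ (k + 1) := by
    rw [gs, Finset.mul_sum]
    exact Finset.sum_congr rfl fun k _ => (pow_succ' T k).symm
  have h2 := Finset.sum_range_succ' (fun k => T ^ k) n
  have h3 := Finset.sum_range_succ (fun k => T ^ k) n
  rw [h3, hT, pow_zero] at h2
  rw [h1, gs]
  exact (add_right_cancel h2).symm

theorem gs_mul {n : ℕ} {T : End F V} (hT : T ^ n = 1) : gs n T * T = gs n T := by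
  have : gs n T * T = T * gs n T := by
    rw [gs, Finset.mul_sum, Finset.sum_mul]
    exact Finset.sum_congr rfl fun k _ => by rw [← pow_succ, ← pow_succ']
  rw [this, mul_gs hT]

theorem gs_fix {n : ℕ} {T : End F V} {u : V} (hu : T u = u) : gs n T u = (n : F) • u := by
  have h1 : ∀ k : ℕ, (T ^ k) u = u := by
    intro k
    induction k with
    | zero => rfl
    | succ k ih => rw [pow_succ, End.mul_apply, hu, ih]
  rw [gs, LinearMap.sum_apply, Finset.sum_congr rfl fun k _ => h1 k, Finset.sum_const, Finset.card_range,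
    Nat.cast_smul_eq_nsmul]

theorem gs_swap {n : ℕ} {T T' W : End F V} (hT' : T' ^ n = 1) (h : T' * W * T = W) :
    W * gs n T = gs n T' * W := by
  have h1 : ∀ k : ℕ, T' ^ k * W * T ^ k = W := by
    intro k
    induction k with
    | zero => simp
    | succ k ih =>
      calc T' ^ (k + 1) * W * T ^ (k + 1) = T' ^ k * (T' * W * T) * T ^ k := by
            rw [pow_succ, pow_succ']; simp only [mul_assoc]
        _ = W := by rw [h, ih]
  have h2 : ∀ k ∈ Finset.range n, W * T ^ k = T' ^ (n - 1 - k + 1) * W := by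
    intro k hk
    have hk' := Finset.mem_range.1 hk
    have e1 : n - 1 - k + 1 = n - k := by omega
    have e2 : T' ^ (n - k) * T' ^ k = 1 := by rw [← pow_add, Nat.sub_add_cancel hk'.le, hT']
    calc W * T ^ k = (T' ^ (n - k) * T' ^ k) * W * T ^ k := by rw [e2, one_mul]
      _ = T' ^ (n - k) * (T' ^ k * W * T ^ k) := by simp only [mul_assoc]
      _ = _ := by rw [h1, e1]
  rw [gs, Finset.mul_sum, Finset.sum_congr rfl h2, ← Finset.sum_mul,
    Finset.sum_range_reflect (fun k => T' ^ (k + 1)) n]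
  congr 1
  rw [← mul_gs hT', gs, Finset.mul_sum]
  exact Finset.sum_congr rfl fun k _ => pow_succ' T' k

end geom

/-- the sum of the powers of a unipotent element -/
theorem sum_unip {F V : Type*} [Field F] [AddCommGroup V] [Module F V] {p : ℕ} (hp : p.Prime) [CharP F p]
    (h5 : 5 ≤ p) {T : End F V} (hT : (T - 1) ^ 4 = 0) : ∑ m ∈ Finset.range p, T ^ m = 0 := by
  have hfp : Fact p.Prime := ⟨hp⟩
  have h1 : (Polynomial.X - 1 : Polynomial F) ^ (p - 1) = ∑ m ∈ Finset.range p, Polynomial.X ^ m := by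
    have h2 : (Polynomial.X - 1 : Polynomial F) ^ p = Polynomial.X ^ p - 1 := by
      rw [sub_pow_char, one_pow]
    have h3 : (∑ m ∈ Finset.range p, (Polynomial.X : Polynomial F) ^ m) * (Polynomial.X - 1) =
        Polynomial.X ^ p - 1 := geom_sum_mul _ _
    have h4 : (Polynomial.X - 1 : Polynomial F) ≠ 0 := by
      have := Polynomial.X_sub_C_ne_zero (1 : F)
      rwa [Polynomial.C_1] at this
    apply mul_right_cancel₀ h4
    rw [h3, ← h2, ← pow_succ, Nat.sub_add_cancel hp.one_lt.le]
  have h2 := congrArg (Polynomial.aeval T) h1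
  rw [map_pow, map_sub, Polynomial.aeval_X, map_one, map_sum] at h2
  simp only [map_pow, Polynomial.aeval_X] at h2
  rw [← h2]
  have h3 : p - 1 = 4 + (p - 5) := by omega
  rw [h3, pow_add, hT, zero_mul]

/-- the fourth difference -/
theorem diff_unip {F V : Type*} [Field F] [AddCommGroup V] [Module F V] {T : End F V} (hT : (T - 1) ^ 4 = 0) :
    1 - (4 : F) • T + (6 : F) • T ^ 2 - (4 : F) • T ^ 3 + T ^ 4 = 0 := by
  rw [← hT]
  have h4 : (4 : F) • T = 4 * T := by
    rw [show (4 : F) = ((4 : ℕ) : F) by norm_num, Nat.cast_smul_eq_nsmul, nsmul_eq_mul]; norm_num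
  have h6 : (6 : F) • T ^ 2 = 6 * T ^ 2 := by
    rw [show (6 : F) = ((6 : ℕ) : F) by norm_num, Nat.cast_smul_eq_nsmul, nsmul_eq_mul]; norm_num
  have h4' : (4 : F) • T ^ 3 = 4 * T ^ 3 := by
    rw [show (4 : F) = ((4 : ℕ) : F) by norm_num, Nat.cast_smul_eq_nsmul, nsmul_eq_mul]; norm_num
  rw [h4, h6, h4']
  noncomm_ring

theorem w_pm {F V : Type*} [Field F] [Fintype F] [AddCommGroup V] [Module F V] {p : ℕ} (hp : p.Prime)
    [CharP F p] (h5 : 5 ≤ p) (h7 : 7 < Nat.card F) (Y : F → End F V) (A W : End F V) {t : Fˣ}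
    (ht : ∀ x : Fˣ, x ∈ Subgroup.zpowers t) (hY : ∀ b c, Y (b + c) = Y b * Y c) (hY0 : Y 0 = 1)
    (hYn : ∀ c, (Y c - 1) ^ 4 = 0) (hAY : ∀ b, A * Y b = Y ((t : F) ^ 2 * b) * A)
    (hAn : A ^ (Fintype.card F - 1) = 1) {ζ ζ' : F} (hζ : ζ = 1 ∨ ζ = -1) (hζ' : ζ' = 1 ∨ ζ' = -1)
    (hW : W * W = ζ' • 1) (hAW : A * W * A = ζ • W)
    (hWY : ∀ b : F, b ≠ 0 → ∃ (k : ℕ) (b1 s : F), (s = 1 ∨ s = -1) ∧
      W * Y b * W = s • (Y (-b⁻¹) * W * A ^ k * Y b1))
    {v : V} (hv : v ≠ 0) (hYv : ∀ b, Y b v = v) {χ : F} (hχ : χ = 1 ∨ χ = -1) (hAv : A v = χ • v) :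
    W v = v ∨ W v = -v := by
  have sqr : ∀ {z : F}, (z = 1 ∨ z = -1) → z * z = 1 := by
    rintro z (rfl | rfl) <;> ring
  have hχ2 := sqr hχ
  have hζ2 := sqr hζ
  have hζ'2 := sqr hζ'
  set n := Fintype.card F - 1 with hn
  set w := W v with hw
  set ε := χ * ζ with hε
  have hε2 : ε * ε = 1 := by rw [hε]; linear_combination ζ * ζ * hχ2 + hζ2
  have hχε : χ * ε * ζ = 1 := by rw [hε]; linear_combination ζ * ζ * hχ2 + hζ2
  have hpw : ∀ {z : F}, z * z = 1 → z ^ n = 1 := by
    intro z hz
    apply FiniteField.pow_card_sub_one_eq_one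
    rintro rfl
    simp at hz
  have hnF : (n : F) = -1 := by
    rw [hn, Nat.cast_sub Fintype.card_pos, FiniteField.cast_card_eq_zero]
    simp
  -- action of `A` on `w`
  have hv' : v = χ • A v := by rw [hAv, smul_smul, hχ2, one_smul]
  have hAw : A w = ε • w := by
    calc A w = χ • (A * W * A) v := by
          show A (W v) = χ • A (W (A v))
          conv_lhs => rw [hv']
          rw [map_smul, map_smul]
      _ = ε • w := by
          rw [hAW, LinearMap.smul_apply, smul_smul]
  have hw' : w = ε • A w := by rw [hAw, smul_smul, hε2, one_smul]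
  have hwne : w ≠ 0 := by
    intro h0
    have h1 : (W * W) v = 0 := by
      show W (W v) = 0
      rw [← hw, h0, map_zero]
    rw [hW] at h1
    change ζ' • v = 0 at h1
    rcases smul_eq_zero.1 h1 with h2 | h2
    · rw [h2] at hζ'2
      simp at hζ'2
    · exact hv h2
  -- the function
  have hφt : ∀ b, Y ((t : F) ^ 2 * b) w = ε • A (Y b w) := by
    intro b
    conv_lhs => rw [hw']
    rw [map_smul]
    congr 1
    show (Y ((t : F) ^ 2 * b) * A) w = (A * Y b) w
    rw [hAY]
  -- projections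
  set T1 : End F V := ε • A with hT1
  set T2 : End F V := χ • A with hT2
  have hT1n : T1 ^ n = 1 := by rw [hT1, smul_pow, hpw hε2, one_smul, hAn]
  have hT2n : T2 ^ n = 1 := by rw [hT2, smul_pow, hpw hχ2, one_smul, hAn]
  have hsw : T2 * W * T1 = W := by
    rw [hT1, hT2, mul_smul_comm, smul_mul_assoc, smul_mul_assoc, hAW, smul_smul, smul_smul]
    have : ε * χ * ζ = 1 := by linear_combination hχε
    rw [this, one_smul]
  have hWg := gs_swap hT2n hsw
  have hsumY : ∀ x c : F, ∑ m ∈ Finset.range p, Y (x + (m : F) * c) w = 0 := by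
    intro x c
    have h1 : ∀ m : ℕ, Y ((m : F) * c) = Y c ^ m := by
      intro m
      induction m with
      | zero => rw [Nat.cast_zero, zero_mul, hY0, pow_zero]
      | succ m ih => rw [Nat.cast_succ, add_mul, one_mul, hY, ih, pow_succ]
    have h2 : ∀ m ∈ Finset.range p, Y (x + (m : F) * c) w = Y x ((Y c ^ m) w) := by
      intro m _
      rw [hY, h1]
      rfl
    rw [Finset.sum_congr rfl h2, ← map_sum, ← LinearMap.sum_apply, sum_unip hp h5 (hYn c), LinearMap.zero_apply,
      map_zero]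
  have hdiffY : ∀ x c : F, Y x w - (4 : F) • Y (x + c) w + (6 : F) • Y (x + 2 * c) w - (4 : F) • Y (x + 3 * c) w +
      Y (x + 4 * c) w = 0 := by
    intro x c
    have e2 : Y (2 * c) = Y c ^ 2 := by rw [two_mul, hY, pow_two]
    have e3 : Y (3 * c) = Y c ^ 3 := by
      rw [show (3 : F) * c = 2 * c + c by ring, hY, e2, ← pow_succ]
    have e4 : Y (4 * c) = Y c ^ 4 := by
      rw [show (4 : F) * c = 3 * c + c by ring, hY, e3, ← pow_succ]
    have h1 := congrArg (fun T : End F V => Y x (T w)) (diff_unip (hYn c))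
    simp only [LinearMap.add_apply, LinearMap.sub_apply, LinearMap.smul_apply, map_add, map_sub, map_smul,
      LinearMap.zero_apply, map_zero, End.one_apply] at h1
    rw [hY, hY, hY, hY, e2, e3, e4]
    exact h1
  have hlin : ∀ L : End F V, ∀ α β : V, (∀ b, b ≠ 0 → L (Y b w) = α ∨ L (Y b w) = β) →
      ∀ b, L (Y b w) = L w := by
    intro L α β h2 b
    have h3 := const_line (E := V) hp h5 h7 (fun b => L (Y b w)) (by
      intro x c
      show ∑ m ∈ Finset.range p, L (Y (x + (m : F) * c) w) = 0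
      rw [← map_sum, hsumY, map_zero]) (by
      intro x c
      have := congrArg L (hdiffY x c)
      simpa only [map_add, map_sub, map_smul, map_zero] using this) h2 b
    rw [h3, hY0]
    rfl
  -- `ψ`
  have hψ : ∀ b, gs n T1 (Y b w) = gs n T1 w := by
    have h1 : ∀ b, gs n T1 (Y ((t : F) ^ 2 * b) w) = gs n T1 (Y b w) := by
      intro b
      rw [hφt]
      show (gs n T1) (T1 (Y b w)) = _
      have := congrArg (fun T : End F V => T (Y b w)) (gs_mul hT1n)
      exact this
    have h2 : ∀ (k : ℕ) (b : F), gs n T1 (Y (((t : F) ^ 2) ^ k * b) w) = gs n T1 (Y b w) := by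
      intro k
      induction k with
      | zero => intro b; rw [pow_zero, one_mul]
      | succ k ih => intro b; rw [pow_succ', mul_assoc, h1, ih]
    apply hlin (gs n T1) (gs n T1 (Y 1 w)) (gs n T1 (Y t w))
    intro b hb
    obtain ⟨j, hj⟩ := (mem_powers_iff_mem_zpowers (x := t) (y := Units.mk0 b hb)).2 (ht _)
    have hj' : (t : F) ^ j = b := by
      have := congrArg Units.val hj
      simpa using this
    rcases Nat.even_or_odd' j with ⟨k, rfl | rfl⟩
    · left
      have := h2 k 1
      rwa [mul_one, ← pow_mul, hj'] at this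
    · right
      have := h2 k t
      rwa [← pow_mul, ← pow_succ, hj'] at this
  have hgsw : gs n T1 w = -w := by
    have : T1 w = w := by rw [hT1, LinearMap.smul_apply]; exact hw'.symm
    rw [gs_fix this, hnF, neg_one_smul]
  -- `θ`
  have hWw : W w = ζ' • v := by
    show (W * W) v = _
    rw [hW]
    rfl
  have hθ : ∀ b, b ≠ 0 → gs n T2 (Y b w) = v ∨ gs n T2 (Y b w) = -v := by
    intro b hb
    obtain ⟨k, b1, s, hs, h1⟩ := hWY (-b⁻¹) (neg_ne_zero.2 (inv_ne_zero hb))
    have h2 : (-(-b⁻¹)⁻¹ : F) = b := by rw [inv_neg, inv_inv, neg_neg]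
    rw [h2] at h1
    have h3 : ∀ k : ℕ, (A ^ k) v = χ ^ k • v := by
      intro k
      induction k with
      | zero => rw [pow_zero, pow_zero, one_smul]; rfl
      | succ k ih => rw [pow_succ', End.mul_apply, ih, map_smul, hAv, smul_smul, pow_succ]
    have h4 : W (Y (-b⁻¹) w) = (s * χ ^ k) • Y b w := by
      have h5 := congrArg (fun T : End F V => T v) h1
      change W (Y (-b⁻¹) (W v)) = s • Y b (W ((A ^ k) (Y b1 v))) at h5
      rw [hYv, h3, map_smul, map_smul, smul_smul] at h5
      exact h5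
    have hsχ : (s * χ ^ k) * (s * χ ^ k) = 1 := by
      have h6 := sqr hs
      have h8 : χ ^ k * χ ^ k = 1 := by rw [← mul_pow, hχ2, one_pow]
      linear_combination (χ ^ k * χ ^ k) * h6 + h8
    have h5 : Y b w = (s * χ ^ k) • W (Y (-b⁻¹) w) := by rw [h4, smul_smul, hsχ, one_smul]
    have h6 : gs n T2 (Y b w) = (s * χ ^ k) • W (gs n T1 (Y (-b⁻¹) w)) := by
      rw [h5, map_smul]
      congr 1
      exact congrArg (fun T : End F V => T (Y (-b⁻¹) w)) hWg.symm
    rw [h6, hψ, hgsw, map_neg, hWw, smul_neg, smul_smul]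
    rcases mul_self_eq_one_iff.1 hsχ with h8 | h8 <;> rcases hζ' with h9 | h9 <;> rw [h8, h9]
    · right; simp
    · left; simp
    · left; simp
    · right; simp
  have h1 := hlin (gs n T2) v (-v) hθ 1
  have h2 : gs n T2 w = v ∨ gs n T2 w = -v := by
    rw [← h1]
    exact hθ 1 one_ne_zero
  have h3 : gs n T2 w ≠ 0 := by
    rcases h2 with h2 | h2 <;> rw [h2]
    · exact hv
    · exact neg_ne_zero.2 hv
  -- eigenvalues
  have h4 : gs n T2 (A w) = χ • gs n T2 w := by
    have h5 := congrArg (fun T : End F V => T w) (gs_mul hT2n)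
    change gs n T2 (χ • A w) = gs n T2 w at h5
    rw [map_smul] at h5
    rw [← h5, smul_smul, hχ2, one_smul]
  rw [hAw, map_smul, ← sub_eq_zero, ← sub_smul] at h4
  have h5' : ε = χ := by
    rcases smul_eq_zero.1 h4 with h6 | h6
    · exact sub_eq_zero.1 h6
    · exact absurd h6 h3
  have h6 : gs n T2 w = -w := by rw [hT2, ← h5', ← hT1, hgsw]
  rw [h6] at h2
  rcases h2 with h2 | h2
  · right
    rw [← h2, neg_neg]
  · left
    exact neg_injective h2

end Cfsg.Agent.H686.EP
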